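import Groth.Agent.FDesc.BaseChangeStalk
import Groth.Agent.FlatOpen.Scheme

/-!
# Flatness over a base change, pointwise, from flatness after base change of sections

If `A' ⊗[A] M` is flat over `A'`, where `M` are the sections of `F` over an affine chart over
`Spec A` and `A'` is a local ring of the new base, then the pullback of `F` is flat over the new base.
-/

set_option autoImplicit false
set_option linter.style.haveILetI false

universe u

open CategoryTheory AlgebraicGeometry TopologicalSpace TensorProduct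
open Groth.Agent.AssSch.Stalk

namespace Groth.Agent.FlatMor.Strat

attribute [local instance] Algebra.TensorProduct.rightAlgebra in
/-- Flatness of `A' ⊗[A] M` over `A'` passes to localizations of `M`. -/
theorem flat_tensor_localized {A As B A' : Type u} [CommRing A] [CommRing As] [CommRing B]
    [CommRing A'] [Algebra A As] [Algebra A B] [Algebra A A'] [Algebra As A'] [IsScalarTower A As A']
    (p : Submonoid A) [IsLocalization p As] (M Mq : Type u) [AddCommGroup M] [Module B M] [Module A M]
    [IsScalarTower A B M] [AddCommGroup Mq] [Module B Mq] [Module A Mq] [IsScalarTower A B Mq]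
    [Module As Mq] [IsScalarTower A As Mq]
    (T : Submonoid B) (g : M →ₗ[B] Mq) [IsLocalizedModule T g]
    (h : Module.Flat A' (A' ⊗[A] M)) : Module.Flat A' (A' ⊗[As] Mq) := by
  have : IsScalarTower B (A' ⊗[A] B) (A' ⊗[A] B) := inferInstance
  have : Module.Flat A' ((A' ⊗[A] B) ⊗[B] M) :=
    Module.Flat.of_linearEquiv (Algebra.IsPushout.cancelBaseChange A A' B (A' ⊗[A] B) M)
  have : Module.Flat B (Localization T) := IsLocalization.flat (Localization T) T
  have : Module.Flat (A' ⊗[A] B) ((A' ⊗[A] B) ⊗[B] Localization T) := inferInstance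
  have h1 := FDesc.Stalk.flat_baseChange (A := A') (B := A' ⊗[A] B)
    (C := (A' ⊗[A] B) ⊗[B] Localization T) ((A' ⊗[A] B) ⊗[B] M)
  let e₁ := (TensorProduct.AlgebraTensorModule.cancelBaseChange B (A' ⊗[A] B) (A' ⊗[A] B)
    ((A' ⊗[A] B) ⊗[B] Localization T) M).restrictScalars A'
  let e₂ := (TensorProduct.AlgebraTensorModule.assoc B B (A' ⊗[A] B) (A' ⊗[A] B)
    (Localization T) M).restrictScalars A'
  let e₃ := (TensorProduct.AlgebraTensorModule.congr (LinearEquiv.refl (A' ⊗[A] B) (A' ⊗[A] B))
    (((LocalizedModule.equivTensorProduct T M).restrictScalars B).symm.trans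
      (IsLocalizedModule.iso T g))).restrictScalars A'
  let e₄ := Algebra.IsPushout.cancelBaseChange A A' B (A' ⊗[A] B) Mq
  have := IsLocalization.tensorProduct_compatibleSMul p As A' Mq
  let e₅ := TensorProduct.equivOfCompatibleSMul A As A' A' Mq
  exact Module.Flat.of_linearEquiv ((((e₁.trans e₂).trans e₃).trans e₄).trans e₅.symm).symm

/-- Variant of `flat_of_flat_pushout` where `M` need only become flat over `A'`. -/
theorem flat_of_flat_pushout' {A A' B C : Type u} [CommRing A] [CommRing A'] [CommRing B]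
    [CommRing C] [Algebra A A'] [Algebra A B] [Algebra B C] [Algebra A' C] [Algebra (A' ⊗[A] B) C]
    [IsScalarTower A' (A' ⊗[A] B) C]
    (hB : (algebraMap (A' ⊗[A] B) C).comp Algebra.TensorProduct.includeRight.toRingHom =
      algebraMap B C)
    [Module.Flat (A' ⊗[A] B) C]
    (M : Type u) [AddCommGroup M] [Module A M] [Module B M] [IsScalarTower A B M]
    (hM : Module.Flat A' (A' ⊗[A] M)) : Module.Flat A' (C ⊗[B] M) := by
  let : Algebra B (A' ⊗[A] B) := Algebra.TensorProduct.rightAlgebra
  have : IsScalarTower B (A' ⊗[A] B) C := IsScalarTower.of_algebraMap_eq' hB.symm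
  have e : (A' ⊗[A] B) ⊗[B] M ≃ₗ[A'] A' ⊗[A] M := Algebra.IsPushout.cancelBaseChange A A' B _ M
  have : Module.Flat A' ((A' ⊗[A] B) ⊗[B] M) := Module.Flat.of_linearEquiv e
  have := FDesc.Stalk.flat_baseChange (A := A') (B := A' ⊗[A] B) (C := C) ((A' ⊗[A] B) ⊗[B] M)
  exact Module.Flat.of_linearEquiv
    ((TensorProduct.AlgebraTensorModule.cancelBaseChange B (A' ⊗[A] B) C C M).restrictScalars A').symm

variable {X Y X' Y' : Scheme.{u}} {p : X' ⟶ X} {q : X' ⟶ Y'} {f : X ⟶ Y} {g : Y' ⟶ Y}
  (sq : IsPullback p q f g) (x' : X')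

/-- The map from the local ring downstairs to the local ring of the new base. -/
noncomputable def baseStalkMap (he : g (q x') = f (p x')) :
    Y.presheaf.stalk (f (p x')) ⟶ Y'.presheaf.stalk (q x') :=
  Y.presheaf.stalkSpecializes (specializes_of_eq he) ≫ g.stalkMap (q x')

include sq in
/-- Flatness over the new base at `x'` only needs `F_x` to become flat over its local ring. -/
theorem flatOverAt_of_flat_tensor (F : X.Modules) (he : g (q x') = f (p x'))
    (h : letI := (baseStalkMap x' he).hom.toAlgebra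
      letI := FlatMod.moduleStalkOver f F (p x')
      Module.Flat (Y'.presheaf.stalk (q x'))
        (Y'.presheaf.stalk (q x') ⊗[Y.presheaf.stalk (f (p x'))] F.presheaf.stalk (p x'))) :
    FlatMod.IsFlatOverAt q ((Scheme.Modules.pullback p).obj F) x' := by
  let φ := baseStalkMap x' he
  let : Algebra (Y.presheaf.stalk (f (p x'))) (X.presheaf.stalk (p x')) := (f.stalkMap (p x')).hom.toAlgebra
  let : Algebra (Y.presheaf.stalk (f (p x'))) (Y'.presheaf.stalk (q x')) := φ.hom.toAlgebra
  let : Algebra (X.presheaf.stalk (p x')) (X'.presheaf.stalk x') := (p.stalkMap x').hom.toAlgebra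
  let : Algebra (Y'.presheaf.stalk (q x')) (X'.presheaf.stalk x') := (q.stalkMap x').hom.toAlgebra
  let : Algebra (Y.presheaf.stalk (f (p x'))) (X'.presheaf.stalk x') :=
    (f.stalkMap (p x') ≫ p.stalkMap x').hom.toAlgebra
  have : IsScalarTower (Y.presheaf.stalk (f (p x'))) (X.presheaf.stalk (p x')) (X'.presheaf.stalk x') :=
    IsScalarTower.of_algebraMap_eq' rfl
  have : IsScalarTower (Y.presheaf.stalk (f (p x'))) (Y'.presheaf.stalk (q x')) (X'.presheaf.stalk x') := by
    refine IsScalarTower.of_algebraMap_eq' (congrArg CommRingCat.Hom.hom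
      (?_ : f.stalkMap (p x') ≫ p.stalkMap x' = φ ≫ q.stalkMap x'))
    rw [← Scheme.Hom.stalkMap_comp, Scheme.Hom.stalkMap_congr_hom _ _ sq.w x']
    simp only [φ, baseStalkMap, Category.assoc, Scheme.Hom.stalkMap_comp]
    rfl
  let ψ : (Y'.presheaf.stalk (q x') ⊗[Y.presheaf.stalk (f (p x'))] X.presheaf.stalk (p x'))
      →ₐ[Y.presheaf.stalk (f (p x'))] X'.presheaf.stalk x' :=
    Algebra.TensorProduct.productMap (IsScalarTower.toAlgHom _ _ _) (IsScalarTower.toAlgHom _ _ _)
  have hflat : ψ.toRingHom.Flat := FDesc.BaseChangeStalk.flat_stalk_of_isPullback sq x'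
    (CommRingCat.ofHom ψ.toRingHom)
    (by ext a; exact Algebra.TensorProduct.productMap_left_apply _ _ a)
    (by ext a; exact Algebra.TensorProduct.productMap_right_apply _ _ a) rfl rfl
  let := ψ.toRingHom.toAlgebra
  have : Module.Flat _ (X'.presheaf.stalk x') := hflat
  have : IsScalarTower (Y'.presheaf.stalk (q x'))
      (Y'.presheaf.stalk (q x') ⊗[Y.presheaf.stalk (f (p x'))] X.presheaf.stalk (p x'))
      (X'.presheaf.stalk x') :=
    IsScalarTower.of_algebraMap_eq fun a => (Algebra.TensorProduct.productMap_left_apply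
      (IsScalarTower.toAlgHom _ (Y'.presheaf.stalk (q x')) (X'.presheaf.stalk x'))
      (IsScalarTower.toAlgHom _ (X.presheaf.stalk (p x')) (X'.presheaf.stalk x')) a).symm
  let := FlatMod.moduleStalkOver f F (p x')
  have : IsScalarTower (Y.presheaf.stalk (f (p x'))) (X.presheaf.stalk (p x')) (F.presheaf.stalk (p x')) :=
    IsScalarTower.of_algebraMap_smul fun _ _ => rfl
  have h1 := flat_of_flat_pushout' (A := Y.presheaf.stalk (f (p x'))) (A' := Y'.presheaf.stalk (q x'))
    (B := X.presheaf.stalk (p x')) (C := X'.presheaf.stalk x')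
    (RingHom.ext fun b => Algebra.TensorProduct.productMap_right_apply _ _ b)
    (F.presheaf.stalk (p x')) h
  let iM : Module (Y'.presheaf.stalk (q x')) (((Scheme.Modules.pullback p).obj F).presheaf.stalk x') :=
    FlatMod.moduleStalkOver q ((Scheme.Modules.pullback p).obj F) x'
  have : IsScalarTower (Y'.presheaf.stalk (q x')) (X'.presheaf.stalk x')
      (((Scheme.Modules.pullback p).obj F).presheaf.stalk x') :=
    IsScalarTower.of_algebraMap_smul fun _ _ => rfl
  obtain ⟨e, -⟩ := FDesc.Stalk.exists_stalk_equiv p F x'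
  exact Module.Flat.of_linearEquiv (e.restrictScalars (Y'.presheaf.stalk (q x'))).symm

include sq in
/-- The criterion on affine charts: it suffices that `A' ⊗[A] Γ(F, V)` be flat over the local ring
`A'` of the new base. -/
theorem flatOverAt_of_chart (F : X.Modules) [F.IsQuasicoherent] {U : Y.Opens} (hU : IsAffineOpen U)
    {V : X.Opens} (hV : IsAffineOpen V) (e : V ≤ f ⁻¹ᵁ U) (hx : p x' ∈ V)
    (he : g (q x') = f (p x'))
    (h : letI := (Y.presheaf.germ U (f (p x')) (e hx) ≫ baseStalkMap x' he).hom.toAlgebra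
      letI : Module Γ(Y, U) Γ(F, V) := Module.compHom _ (f.appLE U V e).hom
      Module.Flat (Y'.presheaf.stalk (q x')) (Y'.presheaf.stalk (q x') ⊗[Γ(Y, U)] Γ(F, V))) :
    FlatMod.IsFlatOverAt q ((Scheme.Modules.pullback p).obj F) x' := by
  refine flatOverAt_of_flat_tensor sq x' F he ?_
  letI := (f.appLE U V e).hom.toAlgebra
  letI : Module Γ(Y, U) Γ(F, V) := Module.compHom _ (f.appLE U V e).hom
  haveI : IsScalarTower Γ(Y, U) Γ(X, V) Γ(F, V) := IsScalarTower.of_algebraMap_smul fun _ _ => rfl
  letI : Algebra Γ(Y, U) (Y.presheaf.stalk (f (p x'))) :=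
    (Y.presheaf.germ U (f (p x')) (e hx)).hom.toAlgebra
  letI := (baseStalkMap x' he).hom.toAlgebra
  letI := (Y.presheaf.germ U (f (p x')) (e hx) ≫ baseStalkMap x' he).hom.toAlgebra
  haveI : IsScalarTower Γ(Y, U) (Y.presheaf.stalk (f (p x'))) (Y'.presheaf.stalk (q x')) :=
    IsScalarTower.of_algebraMap_eq' rfl
  letI : Module Γ(X, V) (F.presheaf.stalk (p x')) :=
    Module.compHom _ (X.presheaf.germ V (p x') hx).hom
  letI : Module (Y.presheaf.stalk (f (p x'))) (F.presheaf.stalk (p x')) :=
    FlatMod.moduleStalkOver f F (p x')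
  letI : Module Γ(Y, U) (F.presheaf.stalk (p x')) :=
    Module.compHom _ ((X.presheaf.germ V (p x') hx).hom.comp (f.appLE U V e).hom)
  haveI : IsScalarTower Γ(Y, U) Γ(X, V) (F.presheaf.stalk (p x')) :=
    IsScalarTower.of_algebraMap_smul fun _ _ => rfl
  haveI : IsScalarTower Γ(Y, U) (Y.presheaf.stalk (f (p x'))) (F.presheaf.stalk (p x')) :=
    IsScalarTower.of_algebraMap_smul fun a m => by
      show (f.stalkMap (p x')).hom (Y.presheaf.germ U (f (p x')) (e hx) a) • m =
        X.presheaf.germ V (p x') hx (f.appLE U V e a) • m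
      rw [FlatOpen.Scheme.stalkMap_germ f e (p x') hx a]
  haveI : IsLocalization.AtPrime (Y.presheaf.stalk (f (p x')))
      (hU.primeIdealOf ⟨f (p x'), e hx⟩).asIdeal := hU.isLocalization_stalk ⟨f (p x'), e hx⟩
  haveI := isLocalizedModule_germLinear F hV (p x') hx
  exact flat_tensor_localized (hU.primeIdealOf ⟨f (p x'), e hx⟩).asIdeal.primeCompl
    Γ(F, V) (F.presheaf.stalk (p x')) (primeOf hV (p x') hx).primeCompl (germLinear F (p x') hx) h

end Groth.Agent.FlatMor.Strat
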