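import Groth.Agent.FlatMor.Strat.Aff
import Groth.Agent.FlatMor.Strat.Stalk
import Groth.Agent.IdealSh.Extend
import Groth.Agent.Props.QFP
import Mathlib.AlgebraicGeometry.Morphisms.FinitePresentation

/-!
# Generic flatness stratification over a qcqs base
-/

set_option autoImplicit false
set_option linter.style.haveILetI false

universe u

open CategoryTheory CategoryTheory.Limits AlgebraicGeometry TopologicalSpace TensorProduct

namespace Groth.Agent.FlatMor.Strat

variable {X S : Scheme.{u}}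

/-- The immersion of the stratum `supp I ∖ supp I'`. -/
noncomputable abbrev stratum (I I' : S.IdealSheafData) :
    (I.subschemeι ⁻¹ᵁ I'.support.compl).toScheme ⟶ S :=
  (I.subschemeι ⁻¹ᵁ I'.support.compl).ι ≫ I.subschemeι

/-- One step of the stratification. -/
def Edge (f : X ⟶ S) (F : X.Modules) (I I' : S.IdealSheafData) : Prop :=
  I ≤ I' ∧ (∀ U : S.affineOpens, (I'.ideal U).FG) ∧
    FlatMod.IsFlatOver (pullback.snd f (stratum I I'))
      ((Scheme.Modules.pullback (pullback.fst f (stratum I I'))).obj F)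

/-- The stratification is checked over affine opens around the points of the stratum. -/
theorem isFlatOver_stratum (f : X ⟶ S) (F : X.Modules) [F.IsQuasicoherent] (I I' : S.IdealSheafData)
    (h : ∀ s : S, s ∈ I.support → s ∉ I'.support → ∃ U : S.affineOpens, s ∈ U.1 ∧
      ∀ x : X, f x = s → ∃ (V : X.Opens) (_ : IsAffineOpen V) (_ : x ∈ V) (e : V ≤ f ⁻¹ᵁ U.1),
        letI : Module Γ(S, U.1) Γ(F, V) := Module.compHom _ (f.appLE U.1 V e).hom
        FlatBtw (I.ideal U) (I'.ideal U) Γ(F, V)) :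
    FlatMod.IsFlatOver (pullback.snd f (stratum I I'))
      ((Scheme.Modules.pullback (pullback.fst f (stratum I I'))).obj F) := by
  intro x'
  let g := stratum I I'
  let p := pullback.fst f g
  let q := pullback.snd f g
  have he : g (q x') = f (p x') := by
    rw [← Scheme.Hom.comp_apply, ← Scheme.Hom.comp_apply, pullback.condition]
  have hz2 : g (q x') ∉ I'.support := (q x').2
  have hz1 : g (q x') ∈ I.support := by
    rw [← SetLike.mem_coe, ← I.range_subschemeι]
    exact ⟨_, rfl⟩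
  obtain ⟨U, hsU, hU⟩ := h _ hz1 hz2
  obtain ⟨V, hV, hxV, e, hflat⟩ := hU (p x') he.symm
  refine flatOverAt_of_chart (IsPullback.of_hasPullback f g) x' F U.2 hV e hxV he ?_
  letI := (S.presheaf.germ U.1 (f (p x')) (e hxV) ≫ baseStalkMap x' he).hom.toAlgebra
  letI : Module Γ(S, U.1) Γ(F, V) := Module.compHom _ (f.appLE U.1 V e).hom
  have key : ∀ a : Γ(S, U.1), algebraMap Γ(S, U.1) ((I.subschemeι ⁻¹ᵁ I'.support.compl).toScheme.presheaf.stalk (q x')) a =
      (g.stalkMap (q x')).hom (S.presheaf.germ U.1 (g (q x')) hsU a) := by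
    intro a
    show (g.stalkMap (q x')).hom ((S.presheaf.stalkSpecializes (specializes_of_eq he)).hom
      (S.presheaf.germ U.1 (f (p x')) (e hxV) a)) = _
    exact congrArg _ (TopCat.Presheaf.germ_stalkSpecializes_apply _ _ _ _)
  refine hflat _ ?_ ?_
  · refine le_bot_iff.mp (Ideal.map_le_iff_le_comap.mpr fun a ha => ?_)
    rw [Ideal.mem_comap, Submodule.mem_bot, key, Scheme.Hom.germ_stalkMap_apply]
    have h0 : (I.subschemeι.app U.1).hom a = 0 :=
      RingHom.mem_ker.mp ((I.ker_subschemeι_app U).symm ▸ ha)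
    have h1 : (g.app U.1).hom a = 0 := by
      show ((stratum I I').app U.1).hom a = 0
      rw [Scheme.Hom.comp_app]
      exact (congrArg (((I.subschemeι ⁻¹ᵁ I'.support.compl).ι.app (I.subschemeι ⁻¹ᵁ U.1)).hom) h0).trans
        (map_zero _)
    exact (congrArg _ h1).trans (map_zero _)
  · rw [Scheme.IdealSheafData.mem_support_iff_of_mem hsU, Scheme.mem_zeroLocus_iff] at hz2
    push_neg at hz2
    obtain ⟨a, ha, ha'⟩ := hz2
    refine Ideal.eq_top_of_isUnit_mem _ (Ideal.mem_map_of_mem _ ha) ?_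
    rw [key]
    exact ((S.mem_basicOpen a (g (q x')) hsU).mp ha').map _

/-- Sections on an affine chart of a finitely presented module are presented over a polynomial ring
over the base. -/
theorem exists_presentation (f : X ⟶ S) [LocallyOfFinitePresentation f] (F : X.Modules)
    [F.IsQuasicoherent] (hfp : CohB1.IsFP F) {U : S.Opens} (hU : IsAffineOpen U) {V : X.Opens}
    (hV : IsAffineOpen V) (e : V ≤ f ⁻¹ᵁ U) :
    letI : Module Γ(S, U) Γ(F, V) := Module.compHom _ (f.appLE U V e).hom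
    ∃ (n r : ℕ) (G : Finset (FlatOpen.Vec n r Γ(S, U))),
      Nonempty (Γ(F, V) ≃ₗ[Γ(S, U)] (FlatOpen.Vec n r Γ(S, U) ⧸
        Submodule.span (MvPolynomial (Fin n) Γ(S, U)) (G : Set (FlatOpen.Vec n r Γ(S, U))))) := by
  letI := (f.appLE U V e).hom.toAlgebra
  letI : Module Γ(S, U) Γ(F, V) := Module.compHom _ (f.appLE U V e).hom
  haveI : IsScalarTower Γ(S, U) Γ(X, V) Γ(F, V) := IsScalarTower.of_algebraMap_smul fun _ _ => rfl
  haveI : Algebra.FinitePresentation Γ(S, U) Γ(X, V) := f.finitePresentation_appLE hU hV e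
  haveI : Module.FinitePresentation Γ(X, V) Γ(F, V) := (Props.QFP.isFP_iff F).1 hfp V hV
  obtain ⟨n, π, hπ, hker⟩ := (inferInstance : Algebra.FinitePresentation Γ(S, U) Γ(X, V)).out
  let P := MvPolynomial (Fin n) Γ(S, U)
  letI : Algebra P Γ(X, V) := π.toRingHom.toAlgebra
  haveI : Module.FinitePresentation P Γ(X, V) :=
    Module.finitePresentation_of_surjective (Algebra.linearMap P Γ(X, V)) hπ (by
      rw [show LinearMap.ker (Algebra.linearMap P Γ(X, V)) = RingHom.ker π.toRingHom from by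
        ext x; rfl]
      exact hker)
  letI : Module P Γ(F, V) := Module.compHom _ π.toRingHom
  haveI : IsScalarTower P Γ(X, V) Γ(F, V) := IsScalarTower.of_algebraMap_smul fun _ _ => rfl
  haveI : IsScalarTower Γ(S, U) P Γ(F, V) := IsScalarTower.of_algebraMap_smul fun a m => by
    show π (algebraMap Γ(S, U) P a) • m = a • m
    rw [π.commutes, algebraMap_smul]
  haveI : Module.FinitePresentation P Γ(F, V) := Module.FinitePresentation.trans P Γ(F, V) Γ(X, V)
  obtain ⟨r, L, eL, G, hG⟩ := Module.FinitePresentation.exists_fin P Γ(F, V)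
  exact ⟨n, r, G, ⟨(eL.trans (Submodule.quotEquivOfEq _ _ hG.symm)).restrictScalars Γ(S, U)⟩⟩

/-- A finitely generated ideal on an affine open extends to a finitely generated ideal sheaf on `S`
vanishing outside that open. -/
theorem exists_extend_affine [CompactSpace S] [QuasiSeparatedSpace S] (U : S.affineOpens)
    (K : Ideal Γ(S, U.1)) (hK : K.FG) :
    ∃ 𝓚 : S.IdealSheafData, (∀ T : S.affineOpens, (𝓚.ideal T).FG) ∧ 𝓚.ideal U = K ∧
      (U.1 : Set S)ᶜ ⊆ 𝓚.support := by
  have : IsAffine U.1.toScheme := U.2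
  have := IdealSh.Extend.quasiCompact_ι U.2.isCompact
  have hle : (⊤ : U.1.toScheme.Opens) ≤ U.1.ι ⁻¹ᵁ U.1 := U.1.ι_preimage_self.ge
  let L := (Scheme.IdealSheafData.ofIdealTop (K.map (U.1.ι.appLE U.1 ⊤ hle).hom)).map U.1.ι
  have hHaff : IsAffineOpen (U.1.ι ⁻¹ᵁ U.1) := by
    rw [U.1.ι_preimage_self]; exact isAffineOpen_top _
  have hLU : L.ideal U = K := by
    refine (Scheme.IdealSheafData.ideal_map _ _ U hHaff).trans ?_
    rw [Scheme.IdealSheafData.ofIdealTop_ideal, Ideal.map_map, ← CommRingCat.hom_comp,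
      Scheme.Hom.appLE_map, ← Scheme.Hom.app_eq_appLE]
    have : IsIso (U.1.ι.app U.1) := by
      rw [Scheme.Opens.ι_app_self]
      exact Functor.map_isIso _ _
    exact Ideal.comap_map_of_bijective _ (ConcreteCategory.bijective_of_isIso _)
  let C : Closeds S := ⟨(U.1 : Set S)ᶜ, U.1.isOpen.isClosed_compl⟩
  let 𝓙 := L ⊓ Scheme.IdealSheafData.vanishingIdeal C
  have hW : ∀ T : S.affineOpens, T.1 ≤ U.1 → 𝓙.ideal T = L.ideal T := by
    intro T hT
    rw [Scheme.IdealSheafData.ideal_inf, Pi.inf_apply, IdealSh.Extend.ideal_eq_top_of_disjoint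
      (𝓘 := Scheme.IdealSheafData.vanishingIdeal C) (U := U.1) (by rw [Scheme.IdealSheafData.coe_support_vanishingIdeal]; exact disjoint_compl_left)
      T hT, inf_top_eq]
  obtain ⟨𝓚, h1, h2, h3⟩ := IdealSh.Extend.exists_finiteType (𝓙 := 𝓙) (W₀ := U.1) U.2.isCompact
    fun T hT => by
      rw [hW T hT, ← L.map_ideal (U := T) (V := U) hT, hLU]
      exact hK.map _
  refine ⟨𝓚, h1, by rw [h3 U le_rfl, hW U le_rfl, hLU], ?_⟩
  have h4 : C ≤ 𝓚.support :=
    Scheme.IdealSheafData.le_support_iff_le_vanishingIdeal.mpr (h2.trans inf_le_right)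
  exact h4

variable (f : X ⟶ S) [LocallyOfFinitePresentation f] [QuasiCompact f] [CompactSpace S]
  [QuasiSeparatedSpace S] (F : X.Modules) [F.IsQuasicoherent]

/-- Finitely many charts over an affine open of the base. -/
theorem exists_charts (U : S.affineOpens) :
    ∃ (ι : Type u) (_ : Finite ι) (V : ι → X.Opens) (_ : ∀ i, IsAffineOpen (V i))
      (_ : ∀ i, V i ≤ f ⁻¹ᵁ U.1), ∀ x, f x ∈ U.1 → ∃ i, x ∈ V i := by
  have hc : IsCompact ((f ⁻¹ᵁ U.1 : X.Opens) : Set X) :=
    QuasiCompact.isCompact_preimage _ U.1.2 U.2.isCompact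
  have hchoose : ∀ x : (f ⁻¹ᵁ U.1 : X.Opens),
      ∃ V : X.Opens, IsAffineOpen V ∧ x.1 ∈ V ∧ V ≤ f ⁻¹ᵁ U.1 := fun x => by
    obtain ⟨V, hV, hxV, hle⟩ := exists_isAffineOpen_mem_and_subset (U := f ⁻¹ᵁ U.1) x.2
    exact ⟨V, hV, hxV, hle⟩
  choose V hV hxV hle using hchoose
  obtain ⟨t, ht⟩ := hc.elim_finite_subcover (fun x => (V x : Set X)) (fun x => (V x).2)
    fun x hx => Set.mem_iUnion.mpr ⟨⟨x, hx⟩, hxV _⟩
  refine ⟨t, inferInstance, fun i => V i.1, fun i => hV _, fun i => hle _, fun x hx => ?_⟩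
  obtain ⟨i, hi, hxi⟩ := Set.mem_iUnion₂.mp (ht hx)
  exact ⟨⟨i, hi⟩, hxi⟩

/-- Induction on the number of affine opens covering the support. -/
theorem exists_chain_of_cover (hfp : CohB1.IsFP F) (t : Finset S.affineOpens) :
    ∀ J : S.IdealSheafData, (∀ U : S.affineOpens, (J.ideal U).FG) →
      (J.support : Set S) ⊆ ⋃ U ∈ t, (U.1 : Set S) → Relation.ReflTransGen (Edge f F) J ⊤ := by
  classical
  induction t using Finset.induction with
  | empty =>
    intro J _ hJ
    rw [show J = ⊤ from (Scheme.IdealSheafData.support_eq_bot_iff (I := J)).1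
      (SetLike.coe_injective (Set.subset_empty_iff.mp (by simpa using hJ)))]
  | @insert U t _ ih =>
    intro J hJfg hJ
    obtain ⟨ι, _, V, hV, hle, hcov⟩ := exists_charts f U
    letI : ∀ i, Module Γ(S, U.1) Γ(F, V i) := fun i =>
      Module.compHom _ (f.appLE U.1 (V i) (hle i)).hom
    obtain ⟨J', hJJ', hJ'rad, hJ'fg, hchain⟩ := exists_chain (fun i => (Γ(F, V i) : Type u))
      (fun i => exists_presentation f F hfp U.2 (hV i) (hle i)) (J.ideal U) (hJfg U)
    have hin : ∀ L : S.IdealSheafData, (∀ T : S.affineOpens, (L.ideal T).FG) →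
        (L.support : Set S) ⊆ (U.1 : Set S) ∪ ⋃ T ∈ t, (T.1 : Set S) → L.ideal U = J' →
        Relation.ReflTransGen (Edge f F) L ⊤ := by
      clear hJJ' hJ'rad hJ'fg
      induction hchain using Relation.ReflTransGen.head_induction_on with
      | refl =>
        intro L hLfg hL hLU
        refine ih L hLfg fun s hs => (hL hs).resolve_left fun hsU => ?_
        rw [SetLike.mem_coe, Scheme.IdealSheafData.mem_support_iff_of_mem hsU,
          Scheme.mem_zeroLocus_iff] at hs
        exact hs 1 (by rw [hLU]; trivial) (by simpa using hsU)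
      | @head K K' hstep _ ih' =>
        intro L hLfg hL hLU
        obtain ⟨𝓚, h𝓚fg, h𝓚U, h𝓚supp⟩ := exists_extend_affine U K' hstep.2.1
        have hfg' : ∀ T : S.affineOpens, ((L ⊔ 𝓚).ideal T).FG := fun T => by
          rw [Scheme.IdealSheafData.ideal_sup, Pi.sup_apply]
          exact Submodule.FG.sup (hLfg T) (h𝓚fg T)
        have hU' : (L ⊔ 𝓚).ideal U = K' := by
          rw [Scheme.IdealSheafData.ideal_sup, Pi.sup_apply, hLU, h𝓚U]
          exact sup_eq_right.mpr hstep.1
        have hsub : ((L ⊔ 𝓚).support : Set S) ⊆ L.support :=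
          Scheme.IdealSheafData.support_antitone le_sup_left
        refine Relation.ReflTransGen.head ⟨le_sup_left, hfg', isFlatOver_stratum f F L _
          fun s hs hs' => ?_⟩ (ih' (L ⊔ 𝓚) hfg' (hsub.trans hL) hU')
        have hsU : s ∈ U.1 := by
          by_contra hsU
          rw [Scheme.IdealSheafData.support_sup] at hs'
          exact hs' ⟨hs, h𝓚supp hsU⟩
        refine ⟨U, hsU, fun x hx => ?_⟩
        obtain ⟨i, hi⟩ := hcov x (hx ▸ hsU)
        refine ⟨V i, hV i, hi, hle i, ?_⟩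
        rw [hLU, hU']
        exact hstep.2.2 i
    obtain ⟨𝓚, h𝓚fg, h𝓚U, h𝓚supp⟩ := exists_extend_affine U J' hJ'fg
    have hfg' : ∀ T : S.affineOpens, ((J ⊔ 𝓚).ideal T).FG := fun T => by
      rw [Scheme.IdealSheafData.ideal_sup, Pi.sup_apply]
      exact Submodule.FG.sup (hJfg T) (h𝓚fg T)
    have hU' : (J ⊔ 𝓚).ideal U = J' := by
      rw [Scheme.IdealSheafData.ideal_sup, Pi.sup_apply, h𝓚U]
      exact sup_eq_right.mpr hJJ'
    have hsupp : ∀ s, s ∈ J.support → s ∈ (J ⊔ 𝓚).support := by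
      intro s hs
      by_cases hsU : s ∈ U.1
      · rw [Scheme.IdealSheafData.mem_support_iff_of_mem hsU] at hs ⊢
        rw [hU']
        rw [← Scheme.zeroLocus_radical] at hs
        exact Scheme.zeroLocus_mono _ (fun a ha => hJ'rad ha) hs
      · rw [Scheme.IdealSheafData.support_sup]
        exact ⟨hs, h𝓚supp hsU⟩
    refine Relation.ReflTransGen.head ⟨le_sup_left, hfg', isFlatOver_stratum f F J _
      fun s hs hs' => absurd (hsupp s hs) hs'⟩ (hin _ hfg' ?_ hU')
    refine fun s hs => ?_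
    have := hJ (Scheme.IdealSheafData.support_antitone le_sup_left hs)
    simpa using this

omit [LocallyOfFinitePresentation f] [QuasiCompact f] [CompactSpace S] [QuasiSeparatedSpace S]
  [F.IsQuasicoherent] in
/-- A chain of edges, as a family indexed by `Fin`. -/
theorem exists_fin_of_chain {J : S.IdealSheafData} (hJ : ∀ U : S.affineOpens, (J.ideal U).FG)
    (h : Relation.ReflTransGen (Edge f F) J ⊤) :
    ∃ (t : ℕ) (I : Fin (t + 1) → S.IdealSheafData), I 0 = J ∧ Monotone I ∧ I (Fin.last t) = ⊤ ∧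
      (∀ i, ∀ U : S.affineOpens, ((I i).ideal U).FG) ∧
      ∀ i : Fin t, Edge f F (I i.castSucc) (I i.succ) := by
  revert hJ
  induction h using Relation.ReflTransGen.head_induction_on with
  | refl =>
    intro hJ
    exact ⟨0, fun _ => ⊤, rfl, monotone_const, rfl, fun _ => hJ, fun i => i.elim0⟩
  | @head K K' hedge _ ih =>
    intro hK
    obtain ⟨t, I, h0, hmono, hlast, hfg, hedges⟩ := ih hedge.2.1
    have hedges' : ∀ i : Fin (t + 1),
        Edge f F ((Fin.cons K I : Fin (t + 2) → _) i.castSucc)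
          ((Fin.cons K I : Fin (t + 2) → _) i.succ) := by
      intro i
      refine Fin.cases ?_ (fun j => ?_) i
      · simpa [h0] using hedge
      · simpa using hedges j
    refine ⟨t + 1, Fin.cons K I, rfl, Fin.monotone_iff_le_succ.mpr fun i => (hedges' i).1, ?_,
      fun i => ?_, hedges'⟩
    · rw [← Fin.succ_last, Fin.cons_succ, hlast]
    · refine Fin.cases ?_ (fun j => ?_) i
      · simpa using hK
      · simpa using hfg j

end Groth.Agent.FlatMor.Strat
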