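import Groth.Agent.FlatOpen.Presented
import Groth.Agent.FlatOpen.FibreAPI
import Groth.Agent.FlatMisc.GenericFreeLoc
import Mathlib.Logic.Relation

/-!
# Flattening stratification of an affine base by finitely generated ideals
-/

set_option autoImplicit false
set_option linter.style.haveILetI false

universe u

open TensorProduct

namespace Groth.Agent.FlatMor.Strat

/-- `M` becomes flat over every algebra that sees exactly the stratum between `I` and `I'`. -/
def FlatBtw {A : Type u} [CommRing A] (I I' : Ideal A) (M : Type u) [AddCommGroup M] [Module A M] :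
    Prop :=
  ∀ (A' : Type u) [CommRing A'] [Algebra A A'], I.map (algebraMap A A') = ⊥ →
    I'.map (algebraMap A A') = ⊤ → Module.Flat A' (A' ⊗[A] M)

/-- One step of a stratification. -/
def Step {A : Type u} [CommRing A] {ι : Type*} (M : ι → Type u) [∀ i, AddCommGroup (M i)]
    [∀ i, Module A (M i)] (I I' : Ideal A) : Prop :=
  I ≤ I' ∧ I'.FG ∧ ∀ i, FlatBtw I I' (M i)

theorem FlatBtw.congr {A : Type u} [CommRing A] {I I' : Ideal A} {M N : Type u} [AddCommGroup M]
    [Module A M] [AddCommGroup N] [Module A N] (e : M ≃ₗ[A] N) (h : FlatBtw I I' M) :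
    FlatBtw I I' N := fun A' _ _ h1 h2 => by
  have := h A' h1 h2
  exact Module.Flat.of_linearEquiv (TensorProduct.AlgebraTensorModule.congr (LinearEquiv.refl A' A') e).symm

open Groth.Agent.FlatOpen Groth.Agent.FlatMisc

/-- Base change of a module that is free on `D(f) ⊆ Spec R̄`. -/
theorem flat_tensor_of_freeAt {R₀ R A A' : Type u} [CommRing R₀] [CommRing R] [CommRing A]
    [CommRing A'] [Algebra R₀ R] [Algebra R₀ A] [Algebra A A'] [Algebra R₀ A']
    [IsScalarTower R₀ A A'] [Algebra R A'] [IsScalarTower R₀ R A'] {n r : ℕ}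
    (Z₀ : Submodule (MvPolynomial (Fin n) R₀) (Vec n r R₀)) (f : R)
    (hf : IsUnit (algebraMap R A' f)) (hfree : GenericFree.FreeAt f (Quot R Z₀)) :
    Module.Flat A' (A' ⊗[A] Quot A Z₀) := by
  let := (IsLocalization.Away.lift (S := Localization.Away f) f hf).toAlgebra
  have : IsScalarTower R (Localization.Away f) A' :=
    IsScalarTower.of_algebraMap_eq fun x => (IsLocalization.Away.lift_eq f hf x).symm
  have := hfree.free_tensor
  have : Module.Flat A' (A' ⊗[Localization.Away f] (Localization.Away f ⊗[R] Quot R Z₀)) :=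
    inferInstance
  let e₁ : A' ⊗[Localization.Away f] (Localization.Away f ⊗[R] Quot R Z₀) ≃ₗ[A'] A' ⊗[R] Quot R Z₀ :=
    TensorProduct.AlgebraTensorModule.cancelBaseChange R (Localization.Away f) A' A' (Quot R Z₀)
  let M₀ := Vec n r R₀ ⧸ Z₀
  let e₂ : A' ⊗[R] Quot R Z₀ ≃ₗ[A'] A' ⊗[R₀] M₀ :=
    (TensorProduct.AlgebraTensorModule.congr (LinearEquiv.refl A' A') (quotEquiv R Z₀).symm).trans
      (TensorProduct.AlgebraTensorModule.cancelBaseChange R₀ R A' A' M₀)
  let e₃ : A' ⊗[A] Quot A Z₀ ≃ₗ[A'] A' ⊗[R₀] M₀ :=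
    (TensorProduct.AlgebraTensorModule.congr (LinearEquiv.refl A' A') (quotEquiv A Z₀).symm).trans
      (TensorProduct.AlgebraTensorModule.cancelBaseChange R₀ A A' A' M₀)
  exact Module.Flat.of_linearEquiv (e₃.trans (e₁.trans e₂).symm)

/-- Finitely many finite modules are simultaneously generically free. -/
theorem exists_freeAt {R : Type u} [CommRing R] [IsReduced R] [Nontrivial R] {ι : Type*} [Finite ι]
    {n r : ι → ℕ} {R₀ : Type u} [CommRing R₀] [Algebra R₀ R]
    (Z : ∀ i, Submodule (MvPolynomial (Fin (n i)) R₀) (Vec (n i) (r i) R₀)) :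
    ∃ f : R, f ≠ 0 ∧ ∀ i, GenericFree.FreeAt f (Quot R (Z i)) := by
  classical
  cases nonempty_fintype ι
  suffices h : ∀ s : Finset ι, ∃ f : R, f ≠ 0 ∧ ∀ i ∈ s, GenericFree.FreeAt f (Quot R (Z i)) by
    obtain ⟨f, hf, h⟩ := h Finset.univ
    exact ⟨f, hf, fun i => h i (Finset.mem_univ i)⟩
  intro s
  induction s using Finset.induction with
  | empty => exact ⟨1, one_ne_zero, fun i hi => absurd hi (Finset.notMem_empty i)⟩
  | @insert a s _ ih =>
    obtain ⟨f, hf, h⟩ := ih
    obtain ⟨g, hfg, hg, hga⟩ :=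
      GenericFree.genFree (MvPolynomial (Fin (n a)) R) (Quot R (Z a)) f hf
    refine ⟨g, hg, fun i hi => ?_⟩
    rcases Finset.mem_insert.1 hi with rfl | hi
    exacts [hga, (h i hi).of_dvd hfg]

/-- The Noetherian induction. -/
theorem exists_chain_of_noetherian {R₀ A : Type u} [CommRing R₀] [IsNoetherianRing R₀] [CommRing A]
    [Algebra R₀ A] {ι : Type*} [Finite ι] {n r : ι → ℕ}
    (Z : ∀ i, Submodule (MvPolynomial (Fin (n i)) R₀) (Vec (n i) (r i) R₀)) :
    ∀ I : Ideal R₀, I.IsRadical →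
      Relation.ReflTransGen (Step fun i => Quot A (Z i)) (I.map (algebraMap R₀ A)) ⊤ := by
  intro I
  induction I using WellFoundedGT.induction with
  | ind I ih =>
    intro hI
    by_cases htop : I = ⊤
    · rw [htop, Ideal.map_top]
    have : IsReduced (R₀ ⧸ I) := I.isRadical_iff_quotient_reduced.mp hI
    have : Nontrivial (R₀ ⧸ I) := Ideal.Quotient.nontrivial_iff.mpr htop
    obtain ⟨f, hf, hfree⟩ := exists_freeAt (R := R₀ ⧸ I) Z
    obtain ⟨a, rfl⟩ := Ideal.Quotient.mk_surjective f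
    let I' := (I ⊔ Ideal.span {a}).radical
    have hle : I ≤ I' := le_sup_left.trans Ideal.le_radical
    have hlt : I < I' := lt_of_le_of_ne hle fun e => hf <| Ideal.Quotient.eq_zero_iff_mem.mpr
      (e ▸ Ideal.le_radical (Ideal.mem_sup_right (Ideal.mem_span_singleton_self a)))
    refine Relation.ReflTransGen.head ⟨Ideal.map_mono hle,
      Ideal.FG.map (show I'.FG from IsNoetherian.noetherian I') _, fun i A' _ _ h0 h1 => ?_⟩
      (ih I' hlt (Ideal.radical_isRadical _))
    let := ((algebraMap A A').comp (algebraMap R₀ A)).toAlgebra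
    have : IsScalarTower R₀ A A' := IsScalarTower.of_algebraMap_eq' rfl
    rw [Ideal.map_map] at h0 h1
    have hker : ∀ x ∈ I, algebraMap R₀ A' x = 0 := fun x hx =>
      (Submodule.mem_bot A').mp (h0 ▸ Ideal.mem_map_of_mem _ hx)
    let := (Ideal.Quotient.lift I (algebraMap R₀ A') hker).toAlgebra
    have : IsScalarTower R₀ (R₀ ⧸ I) A' :=
      IsScalarTower.of_algebraMap_eq (R := R₀) (S := R₀ ⧸ I) fun x => rfl
    have hu : IsUnit (algebraMap R₀ A' a) := by
      rw [← Ideal.span_singleton_eq_top]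
      refine Ideal.radical_eq_top.mp (top_le_iff.mp ?_)
      rw [← h1]
      refine (Ideal.map_radical_le _).trans (Ideal.radical_mono ?_)
      rw [Ideal.map_sup, h0, bot_sup_eq, Ideal.map_span, Set.image_singleton]
      rfl
    exact flat_tensor_of_freeAt (R := R₀ ⧸ I) (Z i) (Ideal.Quotient.mk I a) hu (hfree i)

/-- Modules presented over polynomial rings admit a stratification by finitely generated ideals. -/
theorem exists_chain {A : Type u} [CommRing A] {ι : Type*} [Finite ι] (M : ι → Type u)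
    [∀ i, AddCommGroup (M i)] [∀ i, Module A (M i)]
    (hM : ∀ i, ∃ (n r : ℕ) (G : Finset (Vec n r A)),
      Nonempty (M i ≃ₗ[A] (Vec n r A ⧸ Submodule.span (MvPolynomial (Fin n) A) (G : Set (Vec n r A)))))
    (J : Ideal A) (hJ : J.FG) :
    ∃ J' : Ideal A, J ≤ J' ∧ J' ≤ J.radical ∧ J'.FG ∧ Relation.ReflTransGen (Step M) J' ⊤ := by
  classical
  cases nonempty_fintype ι
  obtain ⟨gJ, rfl⟩ := hJ
  choose n r G e using hM
  let co : Finset A := gJ ∪ Finset.univ.biUnion fun i =>
    (G i).biUnion fun v => Finset.univ.biUnion fun j => (v j).coeffs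
  let R₀ := Algebra.adjoin ℤ (co : Set A)
  have : IsNoetherianRing R₀ := isNoetherianRing_of_fg ⟨co, rfl⟩
  have hlift : ∀ i, ∀ v ∈ G i, ∃ w : Vec (n i) (r i) R₀, mapVec A w = v := by
    intro i v hv
    have : ∀ j, ∃ w : MvPolynomial (Fin (n i)) R₀, MvPolynomial.map (algebraMap R₀ A) w = v j :=
      fun j => MvPolynomial.mem_range_map_iff_coeffs_subset.2 fun x hx =>
        ⟨⟨x, Algebra.subset_adjoin (Finset.mem_union_right _ (Finset.mem_biUnion.2
          ⟨i, Finset.mem_univ _, Finset.mem_biUnion.2 ⟨v, hv, Finset.mem_biUnion.2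
            ⟨j, Finset.mem_univ j, hx⟩⟩⟩))⟩, rfl⟩
    choose w hw using this
    exact ⟨w, funext hw⟩
  choose! w hw using hlift
  let Z : ∀ i, Submodule (MvPolynomial (Fin (n i)) R₀) (Vec (n i) (r i) R₀) := fun i =>
    Submodule.span _ (w i '' (G i : Set (Vec (n i) (r i) A)))
  have hZ : ∀ i, ext A (Z i) =
      Submodule.span (MvPolynomial (Fin (n i)) A) (G i : Set (Vec (n i) (r i) A)) := fun i => by
    rw [ext_span, Set.image_image]
    exact congrArg _ ((Set.image_congr (hw i)).trans (Set.image_id' _))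
  let eM : ∀ i, Quot A (Z i) ≃ₗ[A] M i := fun i =>
    ((Submodule.quotEquivOfEq _ _ (hZ i)).restrictScalars A).trans (e i).some.symm
  let J₀ : Ideal R₀ := Ideal.span {x : R₀ | (x : A) ∈ gJ}
  have hJ₀ : J₀.map (algebraMap R₀ A) = Ideal.span (gJ : Set A) := by
    rw [Ideal.map_span]
    refine congrArg _ (Set.ext fun a => ⟨?_, fun ha => ?_⟩)
    · rintro ⟨x, hx, rfl⟩
      exact hx
    · exact ⟨⟨a, Algebra.subset_adjoin (Finset.mem_union_left _ ha)⟩, ha, rfl⟩
  refine ⟨J₀.radical.map (algebraMap R₀ A), ?_, ?_, Ideal.FG.map (show J₀.radical.FG from IsNoetherian.noetherian J₀.radical) _,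
    Relation.ReflTransGen.mono (fun I I' h => ⟨h.1, h.2.1, fun i => (h.2.2 i).congr (eM i)⟩) _ _
      (exists_chain_of_noetherian Z _ (Ideal.radical_isRadical J₀))⟩
  · exact hJ₀ ▸ Ideal.map_mono Ideal.le_radical
  · exact (Ideal.map_radical_le _).trans (by rw [hJ₀])

end Groth.Agent.FlatMor.Strat
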